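import Mathlib
import Cfsg.Agent.S3116
import Cfsg.Agent.Components.Misc.SolvSemidihedral

/-!
# The elements of odd order of a solvable group with dihedral or semidihedral Sylow subgroup

Without normal subgroups of odd order the elements of odd order other than one form at most one
class, and have order three.
-/

set_option autoImplicit false
set_option linter.unusedSectionVars false
set_option linter.style.haveILetI false

namespace Cfsg.Lib.Blocks.DihedralDefect

open Subgroup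

universe u

variable {Q : Type u} [Group Q] [Finite Q]

/-- Automorphisms congruent on two generators are congruent. -/
lemma stab_of_two (α β : MulAut Q) {x y : Q} (hgen : closure ({x, y} : Set Q) = ⊤)
    (hx : ((α x : Q) : Q ⧸ frattini Q) = (β x : Q)) (hy : ((α y : Q) : Q ⧸ frattini Q) = (β y : Q)) :
    β⁻¹ * α ∈ Cfsg.Lib.MetaTwo.stab Q := by
  intro q
  have hall : ((QuotientGroup.mk' (frattini Q)).comp α.toMonoidHom) =
      (QuotientGroup.mk' (frattini Q)).comp β.toMonoidHom := by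
    refine MonoidHom.eq_of_eqOn_top (hgen ▸ MonoidHom.eqOn_closure ?_)
    intro w hw
    rcases hw with rfl | rfl
    · exact hx
    · exact hy
  have h := DFunLike.congr_fun hall q
  simp only [MonoidHom.comp_apply, QuotientGroup.mk'_apply, MulEquiv.coe_toMonoidHom] at h
  rw [QuotientGroup.eq] at h
  have hc : (frattini Q).Characteristic := inferInstance
  rw [characteristic_iff_map_le] at hc
  have h' := hc β⁻¹ ⟨_, h, rfl⟩
  rw [MulEquiv.coe_toMonoidHom, map_mul, map_inv, MulAut.inv_apply_self, ← inv_mem_iff, mul_inv_rev,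
    inv_inv] at h'
  have h'' := (inferInstance : (frattini Q).Normal).conj_mem _ h' q
  rw [MulAut.mul_apply]
  simpa [mul_assoc] using h''

/-- The congruence classes of the automorphisms of odd order. -/
theorem odd_aut_classes (hQp : IsPGroup 2 Q) (hm : Cfsg.IsMetacyclic Q) {α : MulAut Q}
    (hodd : Odd (orderOf α)) (hα : α ∉ Cfsg.Lib.MetaTwo.stab Q) :
    α ^ 3 = 1 ∧
      (∀ β : MulAut Q, Odd (orderOf β) → β ∉ Cfsg.Lib.MetaTwo.stab Q →
        α⁻¹ * β ∈ Cfsg.Lib.MetaTwo.stab Q ∨ α * β ∈ Cfsg.Lib.MetaTwo.stab Q) ∧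
      ∀ γ : MulAut Q, (α * γ)⁻¹ * (γ * α) ∈ Cfsg.Lib.MetaTwo.stab Q →
        ∃ i : ℕ, (α ^ i)⁻¹ * γ ∈ Cfsg.Lib.MetaTwo.stab Q := by
  haveI : Finite (MulAut Q) := Finite.of_injective (fun f : MulAut Q => (f : Q → Q)) DFunLike.coe_injective
  set Φ := frattini Q
  obtain ⟨hfacts, M, -, m, -, hm0, -⟩ := Cfsg.Lib.MetaTwo.odd_aut_facts hQp hm α hodd hα
  have hV2 : ∀ v : Q ⧸ Φ, v * v = 1 := fun v => by
    rw [← pow_two]; exact Cfsg.Lib.PGroups.pow_prime_quotient_frattini hQp v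
  have hinv : ∀ v : Q ⧸ Φ, v⁻¹ = v := fun v => inv_eq_of_mul_eq_one_right (hV2 v)
  have hcm : ∀ v w : Q ⧸ Φ, v * w = w * v := fun v w => by
    calc v * w = (v * w)⁻¹ := (hinv _).symm
      _ = w * v := by rw [mul_inv_rev, hinv, hinv]
  have hsq : ∀ {β : MulAut Q}, Odd (orderOf β) → β ∉ Cfsg.Lib.MetaTwo.stab Q → ∀ y : Q, y ∉ Φ →
      ((β (β y) : Q) : Q ⧸ Φ) = (y : Q ⧸ Φ) * (β y : Q) := fun {β} ho hn y hy => by
    obtain ⟨hf, -⟩ := Cfsg.Lib.MetaTwo.odd_aut_facts hQp hm β ho hn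
    have h := (QuotientGroup.eq_one_iff (N := Φ) _).2 (hf y hy).2.2.2.2
    rw [QuotientGroup.mk_mul, QuotientGroup.mk_inv, mul_inv_eq_one, QuotientGroup.mk_mul] at h
    exact h
  have hgen : closure ({m, α m} : Set Q) = ⊤ := (hfacts m hm0).2.2.2.1
  have hm1 : α m ∉ Φ := (hfacts m hm0).1
  -- agreement at one point
  have key : ∀ β₁ β₂ : MulAut Q, Odd (orderOf β₁) → β₁ ∉ Cfsg.Lib.MetaTwo.stab Q →
      Odd (orderOf β₂) → β₂ ∉ Cfsg.Lib.MetaTwo.stab Q →
      ((β₁ m : Q) : Q ⧸ Φ) = (β₂ m : Q) → β₂⁻¹ * β₁ ∈ Cfsg.Lib.MetaTwo.stab Q := by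
    intro β₁ β₂ o₁ n₁ o₂ n₂ h
    obtain ⟨hf, -⟩ := Cfsg.Lib.MetaTwo.odd_aut_facts hQp hm β₂ o₂ n₂
    refine stab_of_two β₁ β₂ (hf m hm0).2.2.2.1 h ?_
    have hd : (β₁ m)⁻¹ * β₂ m ∈ Φ := QuotientGroup.eq.1 h
    have hc : Φ.Characteristic := inferInstance
    rw [characteristic_iff_map_le] at hc
    have h' : ((β₁ (β₁ m) : Q) : Q ⧸ Φ) = (β₁ (β₂ m) : Q) := QuotientGroup.eq.2 (by
      rw [← map_inv, ← map_mul]
      exact hc β₁ ⟨_, hd, rfl⟩)
    rw [← h', hsq o₁ n₁ m hm0, hsq o₂ n₂ m hm0, h]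
  -- every nontrivial class
  have hcov : ∀ w : Q, ((w : Q) : Q ⧸ Φ) = 1 ∨ (w : Q ⧸ Φ) = (m : Q) ∨
      (w : Q ⧸ Φ) = (α m : Q) ∨ (w : Q ⧸ Φ) = (m : Q ⧸ Φ) * (α m : Q) := by
    intro w
    have hw : w ∈ closure ({m, α m} : Set Q) := hgen ▸ mem_top w
    induction hw using Subgroup.closure_induction with
    | mem y hy =>
      rcases hy with rfl | rfl
      · exact Or.inr (Or.inl rfl)
      · exact Or.inr (Or.inr (Or.inl rfl))
    | one => exact Or.inl rfl
    | inv y _ ih =>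
      rw [QuotientGroup.mk_inv, hinv]; exact ih
    | mul y y' _ _ ih ih' =>
      rw [QuotientGroup.mk_mul]
      generalize (m : Q ⧸ Φ) = a at ih ih' ⊢
      generalize ((α m : Q) : Q ⧸ Φ) = b at ih ih' ⊢
      have e1 : a * (a * b) = b := by rw [← mul_assoc, hV2, one_mul]
      have e2 : b * (a * b) = a := by rw [hcm a b, ← mul_assoc, hV2, one_mul]
      have e3 : a * b * a = b := by rw [hcm (a * b), e1]
      have e4 : a * b * b = a := by rw [mul_assoc, hV2, mul_one]
      have e5 : b * a = a * b := hcm b a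
      rcases ih with h | h | h | h <;> rcases ih' with h' | h' | h' | h' <;>
        simp [h, h', hV2, e1, e2, e3, e4, e5]
  have hα3 : α ^ 3 = 1 := by
    have ho : Odd (orderOf (α ^ 3)) := hodd.of_dvd_nat (orderOf_pow_dvd 3)
    refine Cfsg.Lib.MetaTwo.eq_one_of_mem_stab hQp ho ?_
    have h3 : ∀ y : Q, y ∉ Φ → ((α (α (α y)) : Q) : Q ⧸ Φ) = (y : Q) := fun y hy => by
      rw [hsq hodd hα (α y) (hfacts y hy).1, hsq hodd hα y hy, hcm (y : Q ⧸ Φ), ← mul_assoc, hV2, one_mul]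
    have := stab_of_two (α ^ 3) 1 hgen (by simpa [pow_succ] using h3 m hm0)
      (by simpa [pow_succ] using h3 (α m) hm1)
    rwa [inv_one, one_mul] at this
  refine ⟨hα3, fun β hβo hβn => ?_, fun γ hγ => ?_⟩
  · rcases hcov (β m) with h | h | h | h
    · exfalso
      obtain ⟨hf, -⟩ := Cfsg.Lib.MetaTwo.odd_aut_facts hQp hm β hβo hβn
      exact (hf m hm0).1 ((QuotientGroup.eq_one_iff _).1 h)
    · exfalso
      obtain ⟨hf, -⟩ := Cfsg.Lib.MetaTwo.odd_aut_facts hQp hm β hβo hβn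
      refine (hf m hm0).2.2.1 ((QuotientGroup.eq_one_iff _).1 ?_)
      rw [QuotientGroup.mk_mul, QuotientGroup.mk_inv, h, mul_inv_cancel]
    · exact Or.inl (key β α hβo hβn hodd hα h)
    · refine Or.inr ?_
      have hn2 : α⁻¹ ∉ Cfsg.Lib.MetaTwo.stab Q := fun h' => hα (by simpa using inv_mem h')
      have ho2 : Odd (orderOf α⁻¹) := by rwa [orderOf_inv]
      have h2 : α⁻¹ = α * α := by
        rw [inv_eq_iff_mul_eq_one, ← hα3, pow_succ, pow_two, mul_assoc]
      have := key β α⁻¹ hβo hβn ho2 hn2 (by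
        rw [h, h2, MulAut.mul_apply, hsq hodd hα m hm0])
      rwa [inv_inv] at this
  · obtain ⟨i, hi⟩ : ∃ i : ℕ, ((γ m : Q) : Q ⧸ Φ) = ((α ^ i) m : Q) := by
      rcases hcov (γ m) with h | h | h | h
      · exfalso
        have hc : Φ.Characteristic := inferInstance
        rw [characteristic_iff_map_le] at hc
        exact hm0 (by simpa using hc γ⁻¹ ⟨_, (QuotientGroup.eq_one_iff _).1 h, rfl⟩)
      · exact ⟨0, by simpa using h⟩
      · exact ⟨1, by simpa using h⟩
      · exact ⟨2, by rw [pow_two, MulAut.mul_apply, hsq hodd hα m hm0]; exact h⟩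
    refine ⟨i, stab_of_two γ (α ^ i) hgen hi ?_⟩
    have h1 : ((γ (α m) : Q) : Q ⧸ Φ) = (α (γ m) : Q) := by
      have h := (QuotientGroup.eq_one_iff (N := Φ) _).2 (hγ m)
      rw [QuotientGroup.mk_mul, QuotientGroup.mk_inv, mul_inv_eq_one] at h
      have hd : ((α * γ)⁻¹ * (γ * α)) m * m⁻¹ ∈ Φ := hγ m
      have hc : Φ.Characteristic := inferInstance
      rw [characteristic_iff_map_le] at hc
      have h' := (QuotientGroup.eq_one_iff (N := Φ) _).2 (hc (α * γ) ⟨_, hd, rfl⟩)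
      simp only [MulEquiv.coe_toMonoidHom, map_mul, map_inv, MulAut.mul_apply, MulAut.apply_inv_self,
        mul_inv_rev] at h'
      rw [QuotientGroup.mk_mul, QuotientGroup.mk_inv, mul_inv_eq_one] at h'
      simpa [MulAut.mul_apply] using h'
    rw [h1, show (α ^ i) (α m) = α ((α ^ i) m) by
      rw [← MulAut.mul_apply, ← MulAut.mul_apply, ← pow_succ, pow_succ']]
    have hd : (γ m)⁻¹ * (α ^ i) m ∈ Φ := QuotientGroup.eq.1 hi
    have hc : Φ.Characteristic := inferInstance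
    rw [characteristic_iff_map_le] at hc
    exact QuotientGroup.eq.2 (by rw [← map_inv, ← map_mul]; exact hc α ⟨_, hd, rfl⟩)

variable {G : Type u} [Group G] [Finite G]

/-- **The classes of elements of odd order.** -/
theorem odd_classes (hsol : Group.IsSolvable G) (hO : Cfsg.pPrimeCore 2 G = ⊥) (T : Sylow 2 G)
    (hT : (∃ n : ℕ, 4 ≤ n ∧ Nonempty (↥(T : Subgroup G) ≃* DihedralGroup n)) ∨
      Cfsg.IsQuasiDihedral ↥(T : Subgroup G)) :
    ∃ x : G, x ^ 3 = 1 ∧ ∀ g : G, Odd (orderOf g) → g = 1 ∨ IsConj g x := by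
  haveI : Fact (Nat.Prime 2) := ⟨Nat.prime_two⟩
  haveI := hsol
  obtain ⟨⟨A, hAc, hA2⟩, -⟩ := Cfsg.Lib.Misc.SolvSemidihedral.exists_cyclic_index_two
    hT
  haveI := hAc
  set F := Cfsg.pCore 2 G with hF
  haveI hFn : F.Normal := Cfsg.Lib.Components.pCore_normal' 2
  have hFT : F ≤ (T : Subgroup G) := Cfsg.Lib.Coprime.pCore_le_sylow 2 T
  have hFp : IsPGroup 2 F := T.2.to_le hFT
  have hCF : centralizer (F : Set G) ≤ F := Cfsg.Lib.Coprime.centralizer_pCore_le 2 hO
  set M := A.comap (Subgroup.inclusion hFT) with hM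
  haveI hAn : A.Normal := Subgroup.normal_of_index_eq_two hA2
  haveI hMn : M.Normal := hAn.comap _
  haveI hMc : IsCyclic M := isCyclic_of_injective ((Subgroup.inclusion hFT).subgroupComap A)
    (fun a b h => Subtype.ext (Subgroup.inclusion_injective hFT (congrArg Subtype.val h)))
  have hMi : M.index ≤ 2 := by
    rw [hM, index_comap]
    refine Nat.le_of_dvd two_pos ?_
    exact (relIndex_dvd_index_of_normal _ _).trans hA2.dvd
  have hmeta : Cfsg.IsMetacyclic F := by
    refine ⟨M, hMn, hMc, ?_⟩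
    have h0 : M.index ≠ 0 := index_ne_zero_of_finite
    rcases (show M.index = 1 ∨ M.index = 2 by omega) with h | h
    · haveI : Subsingleton (F ⧸ M) := (Nat.card_eq_one_iff_unique.1 (by rw [← index_eq_card, h])).1
      infer_instance
    · exact isCyclic_of_prime_card (p := 2) (by rw [← index_eq_card, h])
  haveI : Finite (MulAut F) := Finite.of_injective (fun f : MulAut F => (f : F → F)) DFunLike.coe_injective
  set c : G →* MulAut F := MulAut.conjNormal with hc
  have hcmem : ∀ a : G, c a = 1 → a ∈ centralizer (F : Set G) := fun a ha =>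
    mem_centralizer_iff.2 fun f hf => by
      have h := congrArg (fun φ : MulAut F => ((φ ⟨f, hf⟩ : F) : G)) ha
      exact (mul_inv_eq_iff_eq_mul.1 (by simpa [c, MulAut.conjNormal_apply] using h)).symm
  have hstab : ∀ a : G, Odd (orderOf a) → c a ∈ Cfsg.Lib.MetaTwo.stab F → a = 1 := by
    intro a hodd ha
    have h1 := Cfsg.Lib.MetaTwo.eq_one_of_mem_stab hFp (hodd.of_dvd_nat (orderOf_map_dvd c a)) ha
    obtain ⟨k, hk⟩ := hFp ⟨a, hCF (hcmem a h1)⟩
    have hk' : a ^ 2 ^ k = 1 := congrArg Subtype.val hk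
    exact orderOf_eq_one_iff.1 (Nat.eq_one_of_dvd_coprimes ((Nat.coprime_two_right.2 hodd).pow_right k)
      dvd_rfl (orderOf_dvd_of_pow_eq_one hk'))
  by_cases hex : ∀ g : G, Odd (orderOf g) → g = 1
  · exact ⟨1, one_pow 3, fun g hg => Or.inl (hex g hg)⟩
  push Not at hex
  obtain ⟨x, hxo, hx1⟩ := hex
  have hαn : c x ∉ Cfsg.Lib.MetaTwo.stab F := fun h => hx1 (hstab x hxo h)
  obtain ⟨hα3, hcls, hcomm⟩ :=
    odd_aut_classes hFp hmeta (hxo.of_dvd_nat (orderOf_map_dvd c x)) hαn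
  have hpow3 : ∀ y : G, Odd (orderOf y) → y ^ 3 = 1 := fun y hy => by
    by_cases hy1 : y = 1
    · rw [hy1, one_pow]
    · have hn : c y ∉ Cfsg.Lib.MetaTwo.stab F := fun h => hy1 (hstab y hy h)
      refine hstab _ (hy.of_dvd_nat (orderOf_pow_dvd 3)) ?_
      rw [map_pow, (odd_aut_classes hFp hmeta (hy.of_dvd_nat (orderOf_map_dvd c y)) hn).1]
      exact one_mem _
  set W := (Cfsg.Lib.MetaTwo.stab F).comap c with hW
  haveI : W.Normal := Subgroup.Normal.comap inferInstance c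
  have hWF : W ≤ F := by
    refine Cfsg.Lib.Components.le_pCore fun w => ?_
    obtain ⟨e, m, hm, hn⟩ := Nat.exists_eq_pow_mul_and_not_dvd (orderOf_pos (w : G)).ne' 2 (by norm_num)
    refine ⟨e, Subtype.ext ?_⟩
    rw [Subgroup.coe_pow, Subgroup.coe_one]
    refine hstab _ ?_ (Subgroup.pow_mem _ w.2 _ : (w : G) ^ 2 ^ e ∈ W)
    rw [orderOf_pow_of_dvd (by positivity) ⟨m, hn⟩, hn, Nat.mul_div_cancel_left _ (by positivity)]
    exact Nat.odd_iff.2 (by omega)
  -- the cosets of the odd elements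
  set H := W ⊔ zpowers x with hH
  have hcoset : ∀ y : G, Odd (orderOf y) → y ∈ H := by
    intro y hy
    by_cases hy1 : y = 1
    · rw [hy1]; exact one_mem _
    rcases hcls (c y) (hy.of_dvd_nat (orderOf_map_dvd c y)) (fun h => hy1 (hstab y hy h)) with h | h
    · have hw : x⁻¹ * y ∈ W := by rw [hW, Subgroup.mem_comap, map_mul, map_inv]; exact h
      rw [show y = x * (x⁻¹ * y) by group]
      exact mul_mem (mem_sup_right (mem_zpowers x)) (mem_sup_left hw)
    · have hw : x * y ∈ W := by rw [hW, Subgroup.mem_comap, map_mul]; exact h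
      rw [show y = x⁻¹ * (x * y) by group]
      exact mul_mem (mem_sup_right (inv_mem (mem_zpowers x))) (mem_sup_left hw)
  -- one Sylow class
  haveI : Fact (Nat.Prime 3) := ⟨Nat.prime_three⟩
  have hxo3 : orderOf x = 3 := orderOf_eq_prime (hpow3 x hxo) hx1
  have hsyl : ∀ y : G, orderOf y = 3 → ∃ P : Sylow 3 H, y ∈ (P : Subgroup H).map H.subtype ∧
      ((P : Subgroup H).map H.subtype) = zpowers y := by
    intro y hy
    have hyH : y ∈ H := hcoset y (by rw [hy]; decide)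
    have hp : IsPGroup 3 (zpowers (⟨y, hyH⟩ : H)) := IsPGroup.of_card (n := 1) (by
      rw [Nat.card_zpowers, ← Subgroup.orderOf_coe, hy, pow_one])
    obtain ⟨P, hP⟩ := hp.exists_le_sylow
    have hle : Nat.card (P : Subgroup H) ≤ 3 := by
      have hinj : Function.Injective fun p : (P : Subgroup H) =>
          (QuotientGroup.mk' W) ((p : H) : G) := by
        intro p q h
        have hw : ((p : H) : G)⁻¹ * (q : H) ∈ W := QuotientGroup.eq.1 h
        obtain ⟨k, hk⟩ := IsPGroup.iff_orderOf.1 P.2 (p⁻¹ * q)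
        have ho : Odd (orderOf (((p : H) : G)⁻¹ * (q : H))) := by
          rw [← Subgroup.coe_inv, ← Subgroup.coe_mul, Subgroup.orderOf_coe, ← Subgroup.coe_inv,
            ← Subgroup.coe_mul, Subgroup.orderOf_coe, hk]
          exact Odd.pow (by decide)
        have := hstab _ ho hw
        rw [inv_mul_eq_one] at this
        exact Subtype.ext (Subtype.ext this)
      have hrange : ∀ p : (P : Subgroup H), (QuotientGroup.mk' W) ((p : H) : G) ∈
          zpowers (QuotientGroup.mk' W x) := fun p => by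
        obtain ⟨a, ha, b, hb, hab⟩ := Subgroup.mem_sup_of_normal_left.1 (show ((p : H) : G) ∈ W ⊔ zpowers x from (p : H).2)
        rw [← hab, map_mul, show QuotientGroup.mk' W a = 1 from (QuotientGroup.eq_one_iff a).2 ha,
          one_mul]
        obtain ⟨j, rfl⟩ := mem_zpowers_iff.1 hb
        rw [map_zpow]
        exact zpow_mem (mem_zpowers _) j
      refine le_trans (Nat.card_le_card_of_injective
        (fun p : (P : Subgroup H) => (⟨_, hrange p⟩ : zpowers (QuotientGroup.mk' W x)))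
        fun p q h => hinj (congrArg Subtype.val h)) ?_
      rw [Nat.card_zpowers]
      exact Nat.le_of_dvd (by norm_num) (orderOf_dvd_of_pow_eq_one (by
        rw [← map_pow, hpow3 x hxo, map_one]))
    have heq : zpowers (⟨y, hyH⟩ : H) = (P : Subgroup H) := Subgroup.eq_of_le_of_card_ge hP (by
      rw [Nat.card_zpowers, ← Subgroup.orderOf_coe, hy]; exact hle)
    refine ⟨P, ⟨_, heq ▸ mem_zpowers _, rfl⟩, ?_⟩
    rw [← heq, MonoidHom.map_zpowers]
    rfl
  have hconj : ∀ y : G, orderOf y = 3 → ∃ h ∈ H, h * x * h⁻¹ = y ∨ h * x * h⁻¹ = y⁻¹ := by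
    intro y hy
    obtain ⟨P, -, hP⟩ := hsyl x hxo3
    obtain ⟨P', hy', hP'⟩ := hsyl y hy
    obtain ⟨h, hh⟩ := MulAction.exists_smul_eq H P P'
    refine ⟨h, h.2, ?_⟩
    have hmem : (h : G) * x * (h : G)⁻¹ ∈ zpowers y := by
      rw [← hP']
      obtain ⟨x', hx', hxx⟩ : x ∈ (P : Subgroup H).map H.subtype := hP ▸ mem_zpowers x
      refine ⟨h * x' * h⁻¹, ?_, by rw [← hxx]; rfl⟩
      rw [← hh, Sylow.coe_subgroup_smul]
      exact ⟨x', hx', rfl⟩
    obtain ⟨j, hj⟩ := mem_zpowers_iff.1 hmem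
    rw [← zpow_mod_orderOf, hy] at hj
    have hj' : j % ((3 : ℕ) : ℤ) = 0 ∨ j % ((3 : ℕ) : ℤ) = 1 ∨ j % ((3 : ℕ) : ℤ) = 2 := by
      push_cast; omega
    rcases hj' with e | e | e <;> rw [e] at hj
    · exfalso
      rw [zpow_zero, eq_comm, conj_eq_one_iff] at hj
      exact hx1 hj
    · exact Or.inl (by rw [← hj, zpow_one])
    · refine Or.inr ?_
      have hy3 : y ^ (2 + 1) = 1 := by
        have := pow_orderOf_eq_one y
        rwa [hy] at this
      rw [← hj, eq_inv_iff_mul_eq_one, show (2 : ℤ) = ((2 : ℕ) : ℤ) from rfl, zpow_natCast,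
        ← pow_succ, hy3]
  -- `x` is conjugate to its inverse
  have hTF : ¬ (T : Subgroup G) ≤ F := fun hle => by
    have heq : F = (T : Subgroup G) := le_antisymm hFT hle
    have haut : IsPGroup 2 (MulAut (T : Subgroup G)) := Cfsg.Agent.S3116.result T.2 hT
    obtain ⟨k, hk⟩ := (haut.of_equiv (MulAut.congr (MulEquiv.subgroupCongr heq).symm)) (c x)
    apply hαn
    rw [orderOf_eq_one_iff.1 (Nat.eq_one_of_dvd_coprimes
      ((Nat.coprime_two_right.2 (hxo.of_dvd_nat (orderOf_map_dvd c x))).pow_right k) dvd_rfl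
      (orderOf_dvd_of_pow_eq_one hk))]
    exact one_mem _
  obtain ⟨t, htT, htF⟩ := Set.not_subset.1 hTF
  have hinvx : IsConj x x⁻¹ := by
    obtain ⟨h, hh, he⟩ := hconj (t * x * t⁻¹) (by
      rw [← MulAut.conj_apply, MulEquiv.orderOf_eq, hxo3])
    rcases he with e | e
    · exfalso
      set u := h⁻¹ * t with hu
      have hux : u * x = x * u := by
        calc h⁻¹ * t * x = h⁻¹ * (t * x * t⁻¹) * t := by group
          _ = x * (h⁻¹ * t) := by rw [← e]; group
      obtain ⟨i, hi⟩ := hcomm (c u) (by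
        rw [← map_mul, ← map_mul, ← map_inv, ← map_mul, hux, inv_mul_cancel, map_one]
        exact one_mem _)
      have hw : (x ^ i)⁻¹ * u ∈ W := by
        rw [hW, Subgroup.mem_comap, map_mul, map_inv, map_pow]; exact hi
      have htH : t ∈ H := by
        rw [show t = h * (x ^ i * ((x ^ i)⁻¹ * u)) by rw [hu]; group]
        exact mul_mem hh (mul_mem (mem_sup_right (pow_mem (mem_zpowers x) i)) (mem_sup_left hw))
      obtain ⟨a, ha, b, hb, hab⟩ := Subgroup.mem_sup_of_normal_left.1 htH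
      obtain ⟨j, rfl⟩ := mem_zpowers_iff.1 hb
      obtain ⟨k, hk⟩ := T.2 ⟨t, htT⟩
      have hk' : (QuotientGroup.mk' W t) ^ 2 ^ k = 1 := by
        rw [← map_pow, show t ^ 2 ^ k = 1 from congrArg Subtype.val hk, map_one]
      have h3 : (QuotientGroup.mk' W t) ^ 3 = 1 := by
        rw [← hab, map_mul, show QuotientGroup.mk' W a = 1 from (QuotientGroup.eq_one_iff a).2 ha,
          one_mul, map_zpow, ← zpow_natCast, ← zpow_mul, mul_comm, zpow_mul, zpow_natCast, ← map_pow,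
          hpow3 x hxo, map_one, one_zpow]
      have h1 : QuotientGroup.mk' W t = 1 := orderOf_eq_one_iff.1 (Nat.eq_one_of_dvd_coprimes
        (Nat.Coprime.pow_right k (by norm_num : Nat.Coprime 3 2))
        (orderOf_dvd_of_pow_eq_one h3) (orderOf_dvd_of_pow_eq_one hk'))
      exact htF (hWF ((QuotientGroup.eq_one_iff t).1 h1))
    · refine isConj_iff.2 ⟨t⁻¹ * h, ?_⟩
      calc t⁻¹ * h * x * (t⁻¹ * h)⁻¹ = t⁻¹ * (h * x * h⁻¹) * t := by group
        _ = x⁻¹ := by rw [e]; group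
  refine ⟨x, hpow3 x hxo, fun g hg => ?_⟩
  by_cases hg1 : g = 1
  · exact Or.inl hg1
  refine Or.inr ?_
  obtain ⟨h, -, he⟩ := hconj g (orderOf_eq_prime (hpow3 g hg) hg1)
  rcases he with e | e
  · exact isConj_iff.2 ⟨h⁻¹, by rw [← e]; group⟩
  · refine IsConj.trans ?_ hinvx.symm
    exact isConj_iff.2 ⟨h⁻¹, by rw [show g = (h * x * h⁻¹)⁻¹ by rw [e, inv_inv]]; group⟩

end Cfsg.Lib.Blocks.DihedralDefect
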