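import Mathlib
import Cfsg.Agent.Blocks.Covering
import Cfsg.Agent.Chars.Gallagher
import Cfsg.Agent.Chars.IrrTools
import Cfsg.Prelude.Def_BlockRank

/-!
# Characters over an invariant character with few classes of regular elements in the quotient
-/

set_option autoImplicit false
set_option linter.unusedSectionVars false
set_option linter.style.haveILetI false

namespace Cfsg.Lib.Blocks.DihedralDefect

open Cfsg Cfsg.Lib.Chars Cfsg.Lib.Blocks
open scoped Classical ComplexConjugate

universe u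

variable {G : Type u} [Group G] [Fintype G]

/-- Functions over an invariant character on a coset of order dividing three. -/
theorem exists_coset_function (N : Subgroup G) [N.Normal] [Fintype N] (θ : IrrCharacter N)
    (hinv : ∀ g : G, cjIrr N g θ = θ) {x : G} (hx : x ^ 3 ∈ N) :
    ∃ F : G → ℂ, ∀ χ : IrrCharacter G, classInner (fun n : N => (χ : G → ℂ) n) (θ : N → ℂ) ≠ 0 →
      ∃ b : ℂ, ∀ g : G, g * x⁻¹ ∈ N → (χ : G → ℂ) g = b * F g := by
  set H := N ⊔ Subgroup.zpowers x with hH
  letI : Fintype H := Fintype.ofFinite H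
  have hNH : N ≤ H := le_sup_left
  set N' := N.subgroupOf H with hN'
  haveI : N'.Normal := Subgroup.normal_subgroupOf
  letI : Fintype N' := Fintype.ofFinite N'
  have hidx : N'.index ≤ 3 := by
    let e : Fin 3 → H ⧸ N' := fun i =>
      QuotientGroup.mk (⟨x ^ (i : ℕ), Subgroup.mem_sup_right (Subgroup.pow_mem _ (Subgroup.mem_zpowers x) _)⟩ : H)
    rw [Subgroup.index_eq_card]
    refine (Nat.card_le_card_of_surjective e fun v => ?_).trans (by simp)
    obtain ⟨⟨y, hy⟩, rfl⟩ := QuotientGroup.mk_surjective v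
    obtain ⟨a, ha, b, hb, rfl⟩ := Subgroup.mem_sup_of_normal_left.1 hy
    obtain ⟨j, rfl⟩ := Subgroup.mem_zpowers_iff.1 hb
    refine ⟨⟨(j % 3).toNat, by omega⟩, QuotientGroup.eq.2 ?_⟩
    rw [hN', Subgroup.mem_subgroupOf, Subgroup.coe_mul, Subgroup.coe_inv]
    show (x ^ (j % 3).toNat)⁻¹ * (a * x ^ j) ∈ N
    have e1 : x ^ (j % 3).toNat = x ^ (j % 3) := by
      rw [← zpow_natCast, Int.toNat_of_nonneg (Int.emod_nonneg _ (by norm_num))]
    have e2 : x ^ j = x ^ (j % 3) * (x ^ (3 : ℤ)) ^ (j / 3) := by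
      rw [← zpow_mul, ← zpow_add, Int.emod_add_mul_ediv]
    rw [e1, e2, show (x ^ (j % 3))⁻¹ * (a * (x ^ (j % 3) * (x ^ (3 : ℤ)) ^ (j / 3))) =
      (x ^ (j % 3))⁻¹ * a * ((x ^ (j % 3))⁻¹)⁻¹ * (x ^ (3 : ℤ)) ^ (j / 3) by
        rw [inv_inv]; simp only [mul_assoc]]
    exact N.mul_mem (Subgroup.Normal.conj_mem inferInstance a ha _)
      (Subgroup.zpow_mem _ (by exact_mod_cast hx) _)
  let eN : N' ≃* N := Subgroup.subgroupOfEquivOfLe hNH
  let θ' : IrrCharacter N' :=
    ⟨fun n => (θ : N → ℂ) (eN n), IsIrrCharacter.comp_surjective θ.2 eN.toMonoidHom eN.surjective⟩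
  have hinv' : ∀ g : H, conjN N' g (θ' : N' → ℂ) = (θ' : N' → ℂ) := fun g => by
    funext n
    exact congrFun (congrArg Subtype.val (hinv (g : G))) (eN n)
  have hself := classInner_indFun_self_of_invariant N' θ'.2 hinv'
  obtain ⟨m, hm⟩ := IsCharacter.exists_decomp (IsCharacter.indFun (G := H) (isCharacter_of_irr θ'.2))
  simp only [← Nat.cast_smul_eq_nsmul ℂ] at hm
  obtain ⟨ψ, hψ1⟩ : ∃ ψ : IrrCharacter H,
      classInner (indFun N' (θ' : N' → ℂ)) (ψ : H → ℂ) ≠ 0 := by
    by_contra hall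
    push Not at hall
    rw [hm] at hall hself
    rw [classInner_sum_left, Finset.sum_eq_zero fun c _ => ?_] at hself
    · exact Subgroup.index_ne_zero_of_finite (Nat.cast_eq_zero.1 hself.symm)
    · rw [← classInner_irrSum (fun c => (m c : ℂ)) c, hall c, zero_smul, classInner_zero_left]
  have hmψ : classInner (indFun N' (θ' : N' → ℂ)) (ψ : H → ℂ) = (m ψ : ℂ) := by
    rw [hm]; exact classInner_irrSum (fun c => (m c : ℂ)) ψ
  have hm1 : m ψ = 1 := by
    rw [hm, classInner_self_decomp] at hself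
    simp only [Complex.conj_natCast] at hself
    have h1 : ∑ c, m c * m c = N'.index := by exact_mod_cast hself
    have h2 : m ψ * m ψ ≤ 3 := le_trans
      (Finset.single_le_sum (f := fun c => m c * m c) (fun c _ => Nat.zero_le _) (Finset.mem_univ ψ))
      (h1 ▸ hidx)
    have h3 : m ψ ≠ 0 := fun h => hψ1 (by rw [hmψ, h, Nat.cast_zero])
    rcases Nat.lt_or_ge (m ψ) 2 with h4 | h4
    · omega
    · have := Nat.mul_le_mul h4 h4; omega
  have hres1 : classInner (fun n : N' => (ψ : H → ℂ) n) (θ' : N' → ℂ) = 1 := by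
    have := frobenius_reciprocity N' (θ' : N' → ℂ) (isClassFunction_irr ψ)
    rw [hmψ, hm1, Nat.cast_one] at this
    rw [← classInner_conj_symm, ← this, map_one]
  have hext : (fun n : N' => (ψ : H → ℂ) n) = (θ' : N' → ℂ) := by
    have h := clifford N' ψ.2 θ'.2 (by rw [hres1]; exact one_ne_zero)
    rw [hres1, one_smul, show conjOrbit N' (θ' : N' → ℂ) = {(θ' : N' → ℂ)} from
      Finset.ext fun φ => by rw [mem_conjOrbit, Finset.mem_singleton]; constructor
                             · rintro ⟨g, rfl⟩; exact hinv' g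
                             · rintro rfl; exact ⟨1, conjN_one _ _⟩, Finset.sum_singleton] at h
    exact h
  refine ⟨fun g => if hg : g ∈ H then (ψ : H → ℂ) ⟨g, hg⟩ else 0, fun χ hχ => ?_⟩
  obtain ⟨c, hc⟩ := IsCharacter.exists_decomp (IsCharacter.restrict (isCharacter_of_irr χ.2) H)
  simp only [← Nat.cast_smul_eq_nsmul ℂ] at hc
  -- the constituents lie over `θ'`
  have hover : ∀ η : IrrCharacter H, c η ≠ 0 →
      classInner (indFun N' (θ' : N' → ℂ)) (η : H → ℂ) ≠ 0 := by
    intro η hη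
    obtain ⟨θ'', hθ''⟩ := exists_irr_constituent N' η
    suffices he : θ'' = θ' by
      subst he
      rw [frobenius_reciprocity N' _ (isClassFunction_irr η), ← classInner_conj_symm]
      exact fun h0 => hθ'' ((map_eq_zero (starRingEnd ℂ)).1 h0)
    by_contra hne
    have hcl := clifford N χ.2 θ.2 hχ
    rw [show conjOrbit N (θ : N → ℂ) = {(θ : N → ℂ)} from
      Finset.ext fun φ => by rw [mem_conjOrbit, Finset.mem_singleton]; constructor
                             · rintro ⟨g, rfl⟩; exact congrArg Subtype.val (hinv g)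
                             · rintro rfl; exact ⟨1, conjN_one _ _⟩, Finset.sum_singleton] at hcl
    have hzero : classInner (fun n : N' => (χ : G → ℂ) ((n : H) : G)) (θ'' : N' → ℂ) = 0 := by
      rw [show (fun n : N' => (χ : G → ℂ) ((n : H) : G)) =
        classInner (fun n : N => (χ : G → ℂ) n) (θ : N → ℂ) • (θ' : N' → ℂ) from
        funext fun n => congrFun hcl (eN n), classInner_smul_left,
        classInner_irr_ne (Ne.symm hne), mul_zero]
    rw [show (fun n : N' => (χ : G → ℂ) ((n : H) : G)) =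
      ∑ η : IrrCharacter H, (c η : ℂ) • (fun n : N' => (η : H → ℂ) n) from funext fun n => by
        rw [Finset.sum_apply]
        simpa [Finset.sum_apply] using congrFun hc (n : H), classInner_sum_left] at hzero
    choose k hk using fun η' : IrrCharacter H =>
      IsCharacter.exists_mult (IsCharacter.restrict (isCharacter_of_irr η'.2) N') θ''.2
    simp only [classInner_smul_left, hk, ← Nat.cast_mul, ← Nat.cast_sum, Nat.cast_eq_zero,
      Finset.sum_eq_zero_iff, Finset.mem_univ, mul_eq_zero, forall_const] at hzero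
    rcases hzero η with h | h
    · exact hη h
    · exact hθ'' (by rw [hk η, h, Nat.cast_zero])
  -- Gallagher
  have hone : IsIrrCharacter N' (fun _ => 1) := isIrrCharacter_one
  have hgal := gallagher N' hone (fun g => rfl) ψ.2 (by
    rw [show ((fun _ => 1 : N' → ℂ) * fun n : N' => (ψ : H → ℂ) n) = (θ' : N' → ℂ) from by
      funext n; rw [Pi.mul_apply, one_mul]; exact congrFun hext n]
    exact θ'.2)
  have hxH : x ∈ H := Subgroup.mem_sup_right (Subgroup.mem_zpowers x)
  have hterm : ∀ η : IrrCharacter H, c η ≠ 0 → ∃ b : ℂ, ∀ g : H, (g : G) * x⁻¹ ∈ N →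
      (η : H → ℂ) g = b * (ψ : H → ℂ) g := by
    intro η hη
    obtain ⟨β, ⟨hβ, hβ0⟩, hβη⟩ := hgal.surjOn (show (η : H → ℂ) ∈
        {ψ' : H → ℂ | IsIrrCharacter H ψ' ∧ classInner (indFun N'
          ((fun _ => 1) * fun n : N' => (ψ : H → ℂ) n)) ψ' ≠ 0} from ⟨η.2, by
      rw [show ((fun _ => 1 : N' → ℂ) * fun n : N' => (ψ : H → ℂ) n) = (θ' : N' → ℂ) from by
        funext n; rw [Pi.mul_apply, one_mul]; exact congrFun hext n]
      exact hover η hη⟩)
    refine ⟨β ⟨x, hxH⟩, fun g hg => ?_⟩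
    rw [← hβη]
    simp only [Pi.mul_apply]
    congr 1
    have hker := clifford N' hβ hone (by
      rw [← classInner_conj_symm]
      intro h0
      apply hβ0
      rw [frobenius_reciprocity N' _ (isClassFunction_isChar (isCharacter_of_irr hβ))]
      exact (map_eq_zero (starRingEnd ℂ)).1 h0)
    have hgx : g * (⟨x, hxH⟩ : H)⁻¹ ∈ N' := by
      rw [hN', Subgroup.mem_subgroupOf, Subgroup.coe_mul, Subgroup.coe_inv]; exact hg
    have hk : ∀ k ∈ (QuotientGroup.mk' N').ker, β k = β 1 := by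
      intro k hk
      rw [QuotientGroup.ker_mk'] at hk
      have horb : conjOrbit N' (fun _ => (1 : ℂ)) = {fun _ => (1 : ℂ)} :=
        Finset.ext fun φ => by rw [mem_conjOrbit, Finset.mem_singleton]; constructor
                               · rintro ⟨g, rfl⟩; rfl
                               · rintro rfl; exact ⟨1, conjN_one _ _⟩
      rw [horb, Finset.sum_singleton] at hker
      exact (congrFun hker ⟨k, hk⟩).trans (congrFun hker 1).symm
    obtain ⟨β', -, hβ'⟩ := exists_factor (QuotientGroup.mk' N') (QuotientGroup.mk'_surjective N')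
      (isCharacter_of_irr hβ) hk
    rw [hβ']
    refine congrArg β' (QuotientGroup.eq.2 ?_)
    have := Subgroup.Normal.conj_mem' (inferInstance : N'.Normal) _ (inv_mem hgx) g
    simpa [mul_assoc] using this
  choose b hb using fun η : IrrCharacter H => show ∃ b : ℂ, c η ≠ 0 → ∀ g : H, (g : G) * x⁻¹ ∈ N →
      (η : H → ℂ) g = b * (ψ : H → ℂ) g by
    by_cases h : c η = 0
    · exact ⟨0, fun h' => absurd h h'⟩
    · obtain ⟨b, hb⟩ := hterm η h; exact ⟨b, fun _ => hb⟩
  refine ⟨∑ η, (c η : ℂ) * b η, fun g hg => ?_⟩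
  have hgH : g ∈ H := by
    rw [show g = g * x⁻¹ * x by group]
    exact H.mul_mem (hNH hg) hxH
  simp only [dif_pos hgH]
  rw [show (χ : G → ℂ) g = _ from congrFun hc ⟨g, hgH⟩, Finset.sum_apply, Finset.sum_mul]
  refine Finset.sum_congr rfl fun η _ => ?_
  rw [Pi.smul_apply, smul_eq_mul, mul_assoc]
  by_cases h : c η = 0
  · rw [h, Nat.cast_zero, zero_mul, zero_mul]
  · rw [hb η h ⟨g, hgH⟩ hg]

/-- **The regular rank over an invariant character.** -/
theorem rank_le_two_over {p : ℕ} (N : Subgroup G) [N.Normal] [Fintype N] (θ : IrrCharacter N)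
    (hinv : ∀ g : G, cjIrr N g θ = θ) {x : G} (hx : x ^ 3 ∈ N)
    (hcov : ∀ g : G, ¬ p ∣ orderOf g →
      ∃ a : G, a * g * a⁻¹ ∈ N ∨ a * g * a⁻¹ * x⁻¹ ∈ N)
    {B : Set (IrrCharacter G)}
    (hB : ∀ χ ∈ B, classInner (fun n : N => (χ : G → ℂ) n) (θ : N → ℂ) ≠ 0) :
    blockRank p B ≤ 2 := by
  obtain ⟨F, hF⟩ := exists_coset_function N θ hinv hx
  let T : G → ℂ := fun g => if h : g ∈ N then (θ : N → ℂ) ⟨g, h⟩ else 0
  let Ψ : (Fin 2 → ℂ) →ₗ[ℂ] (G → ℂ) :=
    { toFun := fun v g => if p ∣ orderOf g then 0 else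
        if h1 : ∃ a : G, a * g * a⁻¹ ∈ N then v 0 * T (h1.choose * g * h1.choose⁻¹)
        else if h2 : ∃ a : G, a * g * a⁻¹ * x⁻¹ ∈ N then v 1 * F (h2.choose * g * h2.choose⁻¹)
        else 0
      map_add' := fun v w => funext fun g => by
        simp only [Pi.add_apply]; split_ifs <;> ring
      map_smul' := fun c v => funext fun g => by
        simp only [Pi.smul_apply, RingHom.id_apply, smul_eq_mul]; split_ifs <;> ring }
  refine le_trans (Submodule.finrank_mono (t := LinearMap.range Ψ) (Submodule.span_le.2 ?_))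
    ((LinearMap.finrank_range_le Ψ).trans (by simp))
  rintro _ ⟨χ, hχ, rfl⟩
  have hχθ := hB χ hχ
  obtain ⟨b, hb⟩ := hF χ hχθ
  have hcl := clifford N χ.2 θ.2 hχθ
  rw [show conjOrbit N (θ : N → ℂ) = {(θ : N → ℂ)} from
    Finset.ext fun φ => by rw [mem_conjOrbit, Finset.mem_singleton]; constructor
                           · rintro ⟨g, rfl⟩; exact congrArg Subtype.val (hinv g)
                           · rintro rfl; exact ⟨1, conjN_one _ _⟩, Finset.sum_singleton] at hcl
  refine ⟨![classInner (fun n : N => (χ : G → ℂ) n) (θ : N → ℂ), b], funext fun g => ?_⟩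
  show (if p ∣ orderOf g then 0 else _) = pRegularPart p (χ : G → ℂ) g
  rw [pRegularPart_apply]
  by_cases hg : p ∣ orderOf g
  · rw [if_pos hg, if_pos hg]
  rw [if_neg hg, if_neg hg]
  by_cases h1 : ∃ a : G, a * g * a⁻¹ ∈ N
  · rw [dif_pos h1, Matrix.cons_val_zero, ← isClassFunction_irr χ g h1.choose]
    have := congrFun hcl ⟨_, h1.choose_spec⟩
    simp only [T, dif_pos h1.choose_spec]
    exact this.symm
  · obtain ⟨a, ha | ha⟩ := hcov g hg
    · exact absurd ⟨a, ha⟩ h1
    · have h2 : ∃ a : G, a * g * a⁻¹ * x⁻¹ ∈ N := ⟨a, ha⟩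
      rw [dif_neg h1, dif_pos h2, Matrix.cons_val_one, Matrix.cons_val_fin_one,
        ← isClassFunction_irr χ g h2.choose, hb _ h2.choose_spec]

end Cfsg.Lib.Blocks.DihedralDefect
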