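import Mathlib
import Cfsg.Agent.Blocks.DihedralDefect.OddClasses
import Cfsg.Agent.Blocks.DihedralDefect.OverInvariant
import Cfsg.Agent.OneClass.Count
import Cfsg.Agent.Blocks.ItoDegrees
import Cfsg.Agent.Blocks.FongFullDefect
import Cfsg.Agent.TwoFusion.QGroupCentralizer

/-!
# 2-blocks of solvable groups with dihedral or semidihedral defect group

Fong-Reynolds reduces to an invariant character of the odd core with the defect group a Sylow
2-subgroup; the quotient has at most two classes of elements of odd order.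
-/

set_option autoImplicit false
set_option linter.unusedSectionVars false
set_option linter.style.haveILetI false

namespace Cfsg.Lib.Blocks.DihedralDefect

open Cfsg Cfsg.Lib.Chars Cfsg.Lib.Blocks
open scoped Classical ComplexConjugate

universe u

variable {M : Ideal AlgInt}

/-- Dihedral of order at least eight, or semidihedral. -/
def IsDihOrSD (D : Type u) [Group D] : Prop :=
  (∃ n : ℕ, 4 ≤ n ∧ Nonempty (D ≃* DihedralGroup n)) ∨ Cfsg.IsQuasiDihedral D

lemma IsDihOrSD.congr {A B : Type u} [Group A] [Group B] (e : A ≃* B) (h : IsDihOrSD A) :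
    IsDihOrSD B := by
  rcases h with ⟨n, hn, ⟨f⟩⟩ | h
  · exact Or.inl ⟨n, hn, ⟨e.symm.trans f⟩⟩
  · exact Or.inr (Cfsg.Lib.QGroupCentralizer.isQuasiDihedral_congr e h)

/-- **At most two Brauer characters.** -/
theorem rank_le_two_of_solvable (hM : IsPModular 2 M) : ∀ (n : ℕ) {G : Type u} [Group G] [Fintype G],
    Nat.card G = n → Group.IsSolvable G → ∀ B : Set (IrrCharacter G), IsPBlock M B →
      ∀ D : Subgroup G, IsDefectGroup 2 M B D → IsDihOrSD D → blockRank 2 B ≤ 2 := by
  haveI : Fact (Nat.Prime 2) := ⟨Nat.prime_two⟩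
  intro n
  induction n using Nat.strong_induction_on with
  | _ n ih =>
  intro G _ _ hn hsol B hB D hD hshape
  classical
  haveI := hsol
  have hsolv : Cfsg.IsPSolvable 2 G := isPSolvable_of_solvable hsol
  haveI : (pPrimeCore 2 G).Normal := Components.pPrimeCore_normal' 2
  set N := pPrimeCore 2 G with hN
  letI : Fintype N := Fintype.ofFinite N
  have hNp : ¬ 2 ∣ Nat.card N :=
    hM.1.coprime_iff_not_dvd.1 (Components.coprime_card_pPrimeCore 2).symm
  obtain ⟨χ, hχ⟩ := IsPBlock.nonempty hM hB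
  obtain ⟨θ, hθ⟩ := exists_irr_constituent N χ
  have hint : Integral M (blockElem ({θ} : Set (IrrCharacter N))) := integral_blockElem_pPrime hM hNp _
  have hb : IsPBlock M ({θ} : Set (IrrCharacter N)) := by
    refine ⟨θ, Set.eq_singleton_iff_unique_mem.2 ⟨mem_blockOf_self hM θ, fun ψ hψ => ?_⟩ |>.symm⟩
    exact blockOf_subset_of_integral hM hint (Set.mem_singleton θ) hψ
  set T := inertia N (θ : N → ℂ) with hTd
  have hT : ∀ g, g ∈ T ↔ cjIrr N g '' ({θ} : Set (IrrCharacter N)) = {θ} := fun g => by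
    rw [hTd, mem_inertia, Set.image_singleton, Set.singleton_eq_singleton_iff, Subtype.ext_iff,
      cjIrr_val]
  by_cases hTtop : T = ⊤
  · have hinv : ∀ g : G, cjIrr N g θ = θ := fun g => Subtype.ext (by
      rw [cjIrr_val]; exact mem_inertia.1 (hTtop ▸ Subgroup.mem_top g : g ∈ T))
    obtain ⟨B₀, hB₀, hiff, hfull, hsyl⟩ := pSolvable_block_over hM hsolv N hN θ hinv
      (GaschutzYen.isPSolvable_quotient N hsolv)
    obtain rfl : B = B₀ := IsPBlock.eq_of_mem_inter hM hB hB₀ hχ ((hiff χ).2 hθ)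
    obtain ⟨S, rfl⟩ := hsyl D hD
    set π := QuotientGroup.mk' N with hπdef
    have hπ : Function.Surjective π := QuotientGroup.mk'_surjective N
    have hO : Cfsg.pPrimeCore 2 (G ⧸ N) = ⊥ := by
      rw [← Components.map_pPrimeCore_of_coprime_ker hπ
        (by rw [hπdef, QuotientGroup.ker_mk']; exact Components.coprime_card_pPrimeCore 2),
        ← hN, hπdef, Subgroup.map_eq_bot_iff, QuotientGroup.ker_mk']
    have hinj : Function.Injective (π.comp (S : Subgroup G).subtype) := by
      rw [injective_iff_map_eq_one]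
      intro a ha
      have haN : (a : G) ∈ N := (QuotientGroup.eq_one_iff _).1 ha
      obtain ⟨k, hk⟩ := IsPGroup.iff_orderOf.1 S.2 a
      refine orderOf_eq_one_iff.1 (Nat.eq_one_of_dvd_coprimes
        ((Nat.prime_two.coprime_iff_not_dvd.2 hNp).pow_left k) (hk ▸ dvd_refl _) ?_)
      rw [← Subgroup.orderOf_coe]
      exact Subgroup.orderOf_dvd_natCard N haN
    let S' := S.mapSurjective hπ
    have e : (S : Subgroup G) ≃* (S' : Subgroup (G ⧸ N)) := by
      refine (MonoidHom.ofInjective hinj).trans (MulEquiv.subgroupCongr ?_)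
      rw [MonoidHom.range_comp, Subgroup.range_subtype]
      rfl
    obtain ⟨x, hx3, hcls⟩ := odd_classes (G := G ⧸ N) inferInstance hO S' (hshape.congr e)
    obtain ⟨x', rfl⟩ := hπ x
    refine rank_le_two_over N θ hinv (x := x')
      ((QuotientGroup.eq_one_iff _).1 (by rw [← hx3, ← map_pow]; rfl)) (fun g hg => ?_)
      fun φ hφ => (hiff φ).1 hφ
    have hodd : Odd (orderOf (π g)) := by
      rw [Nat.odd_iff]
      have : ¬ 2 ∣ orderOf (π g) := fun h => hg (h.trans (orderOf_map_dvd π g))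
      omega
    rcases hcls (π g) hodd with h1 | h1
    · exact ⟨1, Or.inl (by rw [one_mul, inv_one, mul_one]; exact (QuotientGroup.eq_one_iff g).1 h1)⟩
    · obtain ⟨a, ha⟩ := isConj_iff.1 h1
      obtain ⟨a', rfl⟩ := hπ a
      refine ⟨a', Or.inr ((QuotientGroup.eq_one_iff _).1 ?_)⟩
      show π (a' * g * a'⁻¹ * x'⁻¹) = 1
      rw [map_mul, map_mul, map_mul, map_inv, map_inv, ha, mul_inv_cancel]
  · letI : Fintype T := Fintype.ofFinite T
    have hNT : N ≤ T := le_inertia (isClassFunction_irr θ)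
    obtain ⟨B', hB', hcov, hind⟩ := reynolds_surjective hM hb hT hNT hB ⟨χ, hχ, θ, rfl, hθ⟩
    obtain ⟨B₀, hind₀, -, hirr, hmem⟩ := reynolds hM hb hT hNT hB' hcov
    obtain ⟨ψ₀, hψ₀⟩ := IsPBlock.nonempty hM hB'
    obtain rfl : B = B₀ := by
      rw [eq_blockOf_of_induced hM hind hψ₀ ⟨_, hirr ψ₀ hψ₀⟩ rfl,
        eq_blockOf_of_induced hM hind₀ hψ₀ ⟨_, hirr ψ₀ hψ₀⟩ rfl]
    have hrank : blockRank 2 B ≤ blockRank 2 B' := by
      let L : (T → ℂ) →ₗ[ℂ] G → ℂ :=
        { toFun := indFun T, map_add' := indFun_add T, map_smul' := indFun_smul T }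
      refine le_trans (Submodule.finrank_mono (Submodule.span_le.2 ?_ : _ ≤
        (Submodule.span ℂ ((fun ψ : IrrCharacter T => pRegularPart 2 (ψ : T → ℂ)) '' B')).map L))
        (Submodule.finrank_map_le L _)
      rintro _ ⟨η, hη, rfl⟩
      obtain ⟨ψ, hψ, hη'⟩ := (hmem η).1 hη
      refine ⟨pRegularPart 2 (ψ : T → ℂ), Submodule.subset_span ⟨ψ, hψ, rfl⟩, ?_⟩
      show indFun T (pRegularPart 2 (ψ : T → ℂ)) = pRegularPart 2 (η : G → ℂ)
      rw [hη', Cfsg.Lib.OneClass.pRegularPart_indFun]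
    obtain ⟨D', hD'⟩ := exists_defectGroup hM hB'
    obtain ⟨hdef, -⟩ := reynolds_defect hM hb hT hNT hB' hcov hind
    obtain ⟨a, ha⟩ := IsDefectGroup.exists_eq_conj hM hB (hdef D' hD') hD
    have hlt : Nat.card T < n := by
      rw [← hn]
      exact lt_of_le_of_ne (Nat.le_of_dvd Nat.card_pos T.card_subgroup_dvd_card)
        fun h => hTtop (Subgroup.eq_top_of_card_eq _ h)
    have e : D ≃* D' :=
      ((MulEquiv.subgroupCongr ha).trans
        (((D'.map T.subtype).equivMapOfInjective _ (MulAut.conj a).injective).symm)).trans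
          (D'.equivMapOfInjective _ T.subtype_injective).symm
    exact hrank.trans (ih _ hlt rfl inferInstance B' hB' D' hD' (hshape.congr e))

end Cfsg.Lib.Blocks.DihedralDefect
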